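import Groth.Prelude.Def_W4c2conddiscmodels
import Mathlib.Tactic.Ring
import Mathlib.Tactic.Linarith
import Mathlib.Data.Matrix.Mul

/-!
# Contraction of a connecting chain in a multigraph with a multiplicity function
-/

namespace Groth.Agent.LabChain

open Finset LabGraph

universe u

variable {V E : Type u} [Fintype V] [Fintype E] [DecidableEq V] [DecidableEq E]
  (ends : E → V × V)

omit [Fintype V] [DecidableEq E] in
theorem edgeMult_comm (v w : V) : edgeMult ends v w = edgeMult ends w v := by
  unfold edgeMult; congr 1; ext e; simp [or_comm]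

theorem edgeMult_ctr (D : Finset E) {c d : DualGr.CtrVert ends D} (h : c ≠ d) :
    edgeMult (DualGr.ctrEnds ends D) c d =
      ∑ x ∈ univ.filter (fun x => DualGr.ctrMk ends D x = c),
        ∑ w ∈ univ.filter (fun w => DualGr.ctrMk ends D w = d), edgeMult ends x w := by
  let P : E → Prop := fun e =>
    (DualGr.ctrMk ends D (ends e).1 = c ∧ DualGr.ctrMk ends D (ends e).2 = d) ∨
      (DualGr.ctrMk ends D (ends e).1 = d ∧ DualGr.ctrMk ends D (ends e).2 = c)
  have hP : ∀ e, P e → e ∉ D := by
    intro e he heD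
    have := DualGr.ctrMk_fst_eq_ctrMk_snd ends D heD
    rcases he with ⟨h1, h2⟩ | ⟨h1, h2⟩
    · exact h (by rw [← h1, this, h2])
    · exact h (by rw [← h2, ← this, h1])
  have hlhs : edgeMult (DualGr.ctrEnds ends D) c d = (univ.filter P).card := by
    unfold edgeMult
    rw [← Finset.card_map (Function.Embedding.subtype _)]
    congr 1
    ext e
    simp only [Finset.mem_map, Finset.mem_filter, Finset.mem_univ, true_and,
      Function.Embedding.subtype_apply, DualGr.ctrEnds, Prod.mk.injEq]
    constructor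
    · rintro ⟨a, ha, rfl⟩; exact ha
    · intro he; exact ⟨⟨e, hP e he⟩, he, rfl⟩
  rw [hlhs]
  unfold edgeMult
  rw [← Finset.sum_product', ← Finset.card_biUnion]
  · congr 1
    ext e
    simp only [Finset.mem_biUnion, Finset.mem_product, Finset.mem_filter, Finset.mem_univ, true_and,
      Prod.exists, P]
    constructor
    · rintro (⟨h1, h2⟩ | ⟨h1, h2⟩)
      · exact ⟨(ends e).1, (ends e).2, ⟨h1, h2⟩, Or.inl rfl⟩
      · exact ⟨(ends e).2, (ends e).1, ⟨h2, h1⟩, Or.inr rfl⟩
    · rintro ⟨a, b, ⟨ha, hb⟩, he | he⟩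
      · exact Or.inl ⟨by rw [he]; exact ha, by rw [he]; exact hb⟩
      · exact Or.inr ⟨by rw [he]; exact hb, by rw [he]; exact ha⟩
  · rintro ⟨a, b⟩ hab ⟨a', b'⟩ hab' hne
    simp only [Finset.coe_product, Set.mem_prod, Finset.coe_filter, Finset.mem_univ, true_and,
      Set.mem_setOf_eq] at hab hab'
    rw [Function.onFun, Finset.disjoint_left]
    intro e he he'
    simp only [Finset.mem_filter, Finset.mem_univ, true_and] at he he'
    rcases he with he | he <;> rcases he' with he' | he' <;> rw [he, Prod.mk.injEq] at he'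
    · exact hne (Prod.ext he'.1 he'.2)
    · exact h (by rw [← hab.1, he'.1, hab'.2])
    · exact h (by rw [← hab'.1, ← he'.1, hab.2])
    · exact hne (Prod.ext he'.2 he'.1)

section Chain

variable {k : ℕ} {f : Fin (k + 1) → V} {e : Fin k → E} (hC : IsChain ends f e)

/-- The contraction map of the chain. -/
abbrev mk (e : Fin k → E) (v : V) : DualGr.CtrVert ends (univ.image e) :=
  DualGr.ctrMk ends (univ.image e) v

include hC

omit [Fintype V] [Fintype E] in
theorem mk_f (i : Fin (k + 1)) : mk ends e (f i) = mk ends e (f 0) := by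
  induction i using Fin.induction with
  | zero => rfl
  | succ i ih =>
    rw [← ih]
    have := DualGr.ctrMk_fst_eq_ctrMk_snd ends (univ.image e) (mem_image_of_mem e (mem_univ i))
    rcases hC.2.2 i with h | h <;> rw [h] at this
    · exact this.symm
    · exact this

omit [Fintype V] [Fintype E] in
theorem mk_eq_iff {x y : V} :
    mk ends e x = mk ends e y ↔ x = y ∨ ((∃ i, f i = x) ∧ ∃ j, f j = y) := by
  constructor
  · intro h
    have h' : Relation.EqvGen (DualGr.CtrRel ends (univ.image e)) x y := Quotient.exact h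
    induction h' with
    | rel a b hab =>
      obtain ⟨d, hd, he⟩ := hab
      obtain ⟨i, -, rfl⟩ := mem_image.1 hd
      rcases hC.2.2 i with hi | hi <;> rw [hi, Prod.mk.injEq] at he <;>
        exact Or.inr ⟨⟨_, he.1⟩, ⟨_, he.2⟩⟩
    | refl a => exact Or.inl rfl
    | symm a b hab ih =>
      rcases ih (Quotient.sound hab) with h | h
      · exact Or.inl h.symm
      · exact Or.inr h.symm
    | trans a b c hab hbc ih1 ih2 =>
      rcases ih1 (Quotient.sound hab) with h1 | h1
      · subst h1; exact ih2 (Quotient.sound hbc)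
      · rcases ih2 (Quotient.sound hbc) with h2 | h2
        · subst h2; exact Or.inr h1
        · exact Or.inr ⟨h1.1, h2.2⟩
  · rintro (rfl | ⟨⟨i, rfl⟩, ⟨j, rfl⟩⟩)
    · rfl
    · rw [mk_f ends hC i, mk_f ends hC j]

omit [Fintype E] in
theorem fibre_chain :
    univ.filter (fun x => mk ends e x = mk ends e (f 0)) = univ.map ⟨f, hC.1⟩ := by
  ext x
  simp only [mem_filter, mem_univ, true_and, mem_map, Function.Embedding.coeFn_mk, mk_eq_iff ends hC]
  constructor
  · rintro (rfl | ⟨h, -⟩)
    · exact ⟨0, rfl⟩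
    · exact h
  · intro h; exact Or.inr ⟨h, 0, rfl⟩

omit [Fintype E] in
theorem fibre_out {v : V} (hv : ∀ i, f i ≠ v) :
    univ.filter (fun x => mk ends e x = mk ends e v) = {v} := by
  ext x
  simp only [mem_filter, mem_univ, true_and, mem_singleton, mk_eq_iff ends hC]
  exact ⟨fun h => h.resolve_right fun h' => let ⟨i, hi⟩ := h'.2; hv i hi, Or.inl⟩

omit [Fintype V] [Fintype E] in
theorem cases_vert (c : DualGr.CtrVert ends (univ.image e)) :
    c = mk ends e (f 0) ∨ ∃ v, (∀ i, f i ≠ v) ∧ c = mk ends e v := by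
  obtain ⟨v, rfl⟩ := DualGr.ctrMk_surjective ends (univ.image e) c
  by_cases h : ∃ i, f i = v
  · obtain ⟨i, rfl⟩ := h
    exact Or.inl (mk_f ends hC i)
  · push Not at h
    exact Or.inr ⟨v, h, rfl⟩

omit [Fintype V] [Fintype E] in
theorem mk_ne_chain {v : V} (hv : ∀ i, f i ≠ v) : mk ends e v ≠ mk ends e (f 0) := by
  intro h
  rcases (mk_eq_iff ends hC).1 h with h | ⟨⟨i, hi⟩, -⟩
  · exact hv 0 h.symm
  · exact hv i hi

omit [Fintype V] [Fintype E] in
theorem mk_inj_out {v w : V} (hv : ∀ i, f i ≠ v) (h : mk ends e v = mk ends e w) : v = w := by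
  rcases (mk_eq_iff ends hC).1 h with h | ⟨⟨i, hi⟩, -⟩
  · exact h
  · exact absurd hi (hv i)

theorem ctr_mult_out {v w : V} (hv : ∀ i, f i ≠ v) (hw : ∀ i, f i ≠ w) (hne : v ≠ w) :
    edgeMult (DualGr.ctrEnds ends (univ.image e)) (mk ends e v) (mk ends e w) = edgeMult ends v w := by
  rw [edgeMult_ctr ends _ (fun h => hne (mk_inj_out ends hC hv h)), fibre_out ends hC hv,
    fibre_out ends hC hw, sum_singleton, sum_singleton]

theorem ctr_mult_chain {v : V} (hv : ∀ i, f i ≠ v) :
    edgeMult (DualGr.ctrEnds ends (univ.image e)) (mk ends e v) (mk ends e (f 0)) =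
      ∑ i, edgeMult ends v (f i) := by
  rw [edgeMult_ctr ends _ (mk_ne_chain ends hC hv), fibre_out ends hC hv, fibre_chain ends hC,
    sum_singleton, sum_map]
  rfl

/-- Sums over the contracted vertices split into the chain class and the other vertices. -/
theorem sum_ctr {M : Type*} [AddCommMonoid M] (F : DualGr.CtrVert ends (univ.image e) → M) :
    ∑ c, F c = F (mk ends e (f 0)) + ∑ v ∈ univ.filter (fun v => ∀ i, f i ≠ v), F (mk ends e v) := by
  trans ∑ c ∈ insert (mk ends e (f 0)) ((univ.filter (fun v => ∀ i, f i ≠ v)).image (mk ends e)), F c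
  · refine (Finset.sum_subset (subset_univ _) fun c _ hc => ?_).symm
    exfalso
    apply hc
    rcases cases_vert ends hC c with h | ⟨v, hv, rfl⟩
    · rw [h]; exact mem_insert_self _ _
    · exact mem_insert_of_mem (mem_image_of_mem _ (by simpa using hv))
  · rw [Finset.sum_insert, Finset.sum_image]
    · intro v hv w _ h
      exact mk_inj_out ends hC (by simpa using hv) h
    · simp only [mem_image, mem_filter, mem_univ, true_and, not_exists, not_and]
      exact fun v hv => mk_ne_chain ends hC hv

omit [Fintype E] in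
theorem sum_split {M : Type*} [AddCommMonoid M] (F : V → M) :
    ∑ v, F v = ∑ i, F (f i) + ∑ v ∈ univ.filter (fun v => ∀ i, f i ≠ v), F v := by
  classical
  rw [← Finset.sum_filter_add_sum_filter_not univ (fun v => ∀ i, f i ≠ v), add_comm]
  congr 1
  have : univ.filter (fun v => ¬ ∀ i, f i ≠ v) = univ.map ⟨f, hC.1⟩ := by ext v; simp
  rw [this, sum_map]
  rfl

omit [Fintype V] [Fintype E] in
theorem ctrFn_chain (β : V → ℤ) (hconst : ∀ i, β (f i) = β (f 0)) :
    ctrFn ends (univ.image e) β (mk ends e (f 0)) = β (f 0) := by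
  unfold ctrFn
  set q := Quotient.out (s := DualGr.ctrSetoid ends (univ.image e)) (mk ends e (f 0))
  have h : mk ends e q = mk ends e (f 0) := Quotient.out_eq _
  rcases (mk_eq_iff ends hC).1 h with h | ⟨⟨i, hi⟩, -⟩
  · rw [h]
  · rw [← hi, hconst]

omit [Fintype V] [Fintype E] in
theorem ctrFn_out (β : V → ℤ) {v : V} (hv : ∀ i, f i ≠ v) :
    ctrFn ends (univ.image e) β (mk ends e v) = β v := by
  unfold ctrFn
  set q := Quotient.out (s := DualGr.ctrSetoid ends (univ.image e)) (mk ends e v)
  have h : mk ends e q = mk ends e v := Quotient.out_eq _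
  rw [← mk_inj_out ends hC hv h.symm]

theorem offsum_out (β : V → ℤ) (hconst : ∀ i, β (f i) = β (f 0)) {v : V} (hv : ∀ i, f i ≠ v) :
    ∑ u ∈ univ.erase (mk ends e v), ctrFn ends (univ.image e) β u *
        (edgeMult (DualGr.ctrEnds ends (univ.image e)) (mk ends e v) u : ℤ) =
      ∑ w ∈ univ.erase v, β w * (edgeMult ends v w : ℤ) := by
  classical
  rw [← Finset.filter_ne' univ, ← Finset.filter_ne' univ, Finset.sum_filter, Finset.sum_filter,
    sum_ctr ends hC, sum_split ends hC, if_pos (mk_ne_chain ends hC hv).symm, ctrFn_chain ends hC β hconst,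
    ctr_mult_chain ends hC hv]
  congr 1
  · push_cast
    rw [Finset.mul_sum]
    exact sum_congr rfl fun i _ => by rw [if_pos (hv i), hconst i]
  · refine sum_congr rfl fun w hw => ?_
    have hw' : ∀ i, f i ≠ w := (mem_filter.1 hw).2
    by_cases h : w = v
    · subst h; simp
    · rw [if_pos (fun h' => h (mk_inj_out ends hC hw' h')), if_pos h, ctrFn_out ends hC β hw',
        ctr_mult_out ends hC hv hw' (Ne.symm h)]

theorem offsum_chain (β : V → ℤ) :
    ∑ u ∈ univ.erase (mk ends e (f 0)), ctrFn ends (univ.image e) β u *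
        (edgeMult (DualGr.ctrEnds ends (univ.image e)) (mk ends e (f 0)) u : ℤ) =
      ∑ i, ∑ w ∈ univ.filter (fun w => ∀ i, f i ≠ w), β w * (edgeMult ends (f i) w : ℤ) := by
  classical
  rw [← Finset.filter_ne' univ, Finset.sum_filter, sum_ctr ends hC, if_neg (not_not.2 rfl), zero_add,
    Finset.sum_comm]
  refine sum_congr rfl fun w hw => ?_
  have hw' : ∀ i, f i ≠ w := (mem_filter.1 hw).2
  rw [if_pos (mk_ne_chain ends hC hw'), ctrFn_out ends hC β hw', edgeMult_comm,
    ctr_mult_chain ends hC hw']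
  push_cast
  rw [Finset.mul_sum]
  exact sum_congr rfl fun i _ => by rw [edgeMult_comm]

end Chain

end Groth.Agent.LabChain
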