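import Groth.Agent.LabChain.Basic
import Mathlib.Data.Fin.Tuple.Basic

/-!
# Connecting chains of length `m` with multiplicity `m`
-/

namespace Groth.Agent.LabChain

open Finset LabGraph

set_option linter.unusedSectionVars false
set_option linter.unusedSimpArgs false

universe u

variable {V E : Type u} [Fintype V] [Fintype E] [DecidableEq V] [DecidableEq E]
  {ends : E → V × V}

section Cut

variable {k : ℕ} {f : Fin (k + 1) → V} {e : Fin k → E} (hC : IsChain ends f e)

include hC

omit [Fintype V] [Fintype E] [DecidableEq V] [DecidableEq E] in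
/-- A cut set of the `i`-th edge, with the tail of the chain inside. -/
theorem exists_cut (hconn : ∀ i, IsConnecting ends (e i)) (i : Fin k) :
    ∃ B : Set V, (∀ d : E, d ≠ e i → ((ends d).1 ∈ B ↔ (ends d).2 ∈ B)) ∧
      ∀ j : Fin (k + 1), f j ∈ B ↔ i.val < j.val := by
  obtain ⟨S, hS⟩ := hconn i
  obtain ⟨B, hB, hi, hi'⟩ : ∃ B : Set V, (∀ d : E, d ≠ e i → ((ends d).1 ∈ B ↔ (ends d).2 ∈ B)) ∧
      f i.castSucc ∉ B ∧ f i.succ ∈ B := by
    have hcross := (hS (e i)).2 rfl
    have hkeep : ∀ d, d ≠ e i → ((ends d).1 ∈ S ↔ (ends d).2 ∈ S) := fun d hd => by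
      have h := (hS d).not.2 hd
      tauto
    by_cases h : f i.succ ∈ S
    · refine ⟨↑S, fun d hd => by simpa using hkeep d hd, ?_, by simpa using h⟩
      rcases hC.2.2 i with he | he <;> rw [he] at hcross <;> simp only [Finset.mem_coe] <;> tauto
    · refine ⟨(↑S)ᶜ, fun d hd => by simpa using not_congr (hkeep d hd), ?_, by simpa using h⟩
      rcases hC.2.2 i with he | he <;> rw [he] at hcross <;> simp only [Set.mem_compl_iff, Finset.mem_coe] <;> tauto
  have hstep : ∀ j : Fin k, j ≠ i → (f j.castSucc ∈ B ↔ f j.succ ∈ B) := fun j hj => by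
    have h := hB (e j) (hC.2.1.ne hj)
    rcases hC.2.2 j with he | he <;> rw [he] at h
    · exact h
    · exact h.symm
  refine ⟨B, hB, fun j => ?_⟩
  induction j using Fin.induction with
  | zero =>
    simp only [Fin.val_zero, Nat.not_lt_zero, iff_false]
    have : ∀ d : ℕ, ∀ hd : d ≤ i.val, (f ⟨i.val - d, by omega⟩ ∉ B) := by
      intro d
      induction d with
      | zero => intro _; exact hi
      | succ d ih =>
        intro hd
        have := hstep ⟨i.val - (d + 1), by omega⟩ (by intro h; have := congrArg Fin.val h; simp at this; omega)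
        intro hmem
        refine ih (by omega) ?_
        convert this.1 hmem using 2
        ext; simp; omega
    have h := this i.val le_rfl
    simpa using h
  | succ j ih =>
    by_cases hj : j = i
    · subst hj; simp [hi']
    · rw [← hstep j hj, ih]
      have : j.val ≠ i.val := fun h => hj (Fin.ext h)
      simp only [Fin.val_castSucc, Fin.val_succ]
      omega

omit [Fintype V] in
theorem mult_succ (hconn : ∀ i, IsConnecting ends (e i)) (i : Fin k) :
    edgeMult ends (f i.castSucc) (f i.succ) = 1 := by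
  obtain ⟨B, hB, hBf⟩ := exists_cut hC hconn i
  unfold edgeMult
  rw [Finset.card_eq_one]
  refine ⟨e i, ?_⟩
  ext d
  simp only [mem_filter, mem_univ, true_and, mem_singleton]
  refine ⟨fun hd => ?_, fun hd => hd ▸ hC.2.2 i⟩
  by_contra hne
  have h := hB d hne
  rcases hd with hd | hd <;> rw [hd] at h <;> simp [hBf] at h

omit [Fintype V] in
theorem mult_far (hconn : ∀ i, IsConnecting ends (e i)) (i j : Fin (k + 1)) (h : i.val + 1 < j.val) :
    edgeMult ends (f i) (f j) = 0 := by
  obtain ⟨B, hB, hBf⟩ := exists_cut hC hconn ⟨i.val, by omega⟩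
  unfold edgeMult
  rw [Finset.card_eq_zero, Finset.filter_eq_empty_iff]
  intro d _ hd
  by_cases hne : d = e ⟨i.val, by omega⟩
  · subst hne
    rcases hC.2.2 ⟨i.val, by omega⟩ with he | he <;> rcases hd with hd | hd <;>
      rw [he, Prod.mk.injEq] at hd <;>
      · have h1 := congrArg Fin.val (hC.1 hd.1)
        have h2 := congrArg Fin.val (hC.1 hd.2)
        simp at h1 h2
        all_goals omega
  · have hh := hB d hne
    rcases hd with hd | hd <;> rw [hd] at hh <;> simp [hBf] at hh <;> omega

end Cut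

/-- The data of a connecting chain with `β = m` and self-intersection `-2`. -/
structure Cfg (ends : E → V × V) (β : V → ℤ) (m : ℕ) (f : Fin (m + 1) → V) (e : Fin m → E) : Prop where
  hβ : IsMultFn ends β
  hC : IsChain ends f e
  hconn : ∀ i, IsConnecting ends (e i)
  hβm : ∀ i, β (f i) = m
  hα : ∀ i, mfMatrix ends β (f i) (f i) = -2

variable {β : V → ℤ} {m : ℕ} {f : Fin (m + 1) → V} {e : Fin m → E}

/-- The vertices outside the chain. -/
abbrev Out (f : Fin (m + 1) → V) : Finset V := univ.filter fun w => ∀ i, f i ≠ w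

omit [Fintype E] [DecidableEq E] in
theorem out_iff {w : V} : w ∈ Out f ↔ ∀ i, f i ≠ w := by simp [Out]

theorem Cfg.m_pos (H : Cfg ends β m f e) : 0 < m := by
  have := (H.hβ (f 0)).1
  rw [H.hβm] at this
  exact_mod_cast this

theorem Cfg.offsum (H : Cfg ends β m f e) (v : V) :
    ∑ u ∈ univ.erase v, β u * (edgeMult ends v u : ℤ) = -(mfMatrix ends β v v * β v) := by
  have h := Int.ediv_mul_cancel ((H.hβ v).2.neg_right)
  simp only [mfMatrix, if_pos]
  rw [h, neg_neg]

theorem Cfg.total (H : Cfg ends β m f e) (i : Fin (m + 1)) :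
    ∑ j ∈ univ.filter (fun j => j ≠ i), (m : ℤ) * (edgeMult ends (f i) (f j) : ℤ) +
      ∑ w ∈ Out f, β w * (edgeMult ends (f i) w : ℤ) = 2 * m := by
  classical
  have h := H.offsum (f i)
  rw [H.hα, H.hβm, ← Finset.filter_ne' univ, Finset.sum_filter, sum_split ends H.hC] at h
  have e1 : ∑ j ∈ univ.filter (fun j => j ≠ i), (m : ℤ) * (edgeMult ends (f i) (f j) : ℤ) =
      ∑ j, if f j ≠ f i then β (f j) * (edgeMult ends (f i) (f j) : ℤ) else 0 := by
    rw [Finset.sum_filter]
    refine sum_congr rfl fun j _ => ?_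
    by_cases hj : j = i
    · subst hj; simp
    · rw [if_pos hj, if_pos (H.hC.1.ne hj), H.hβm]
  have e2 : ∑ w ∈ Out f, β w * (edgeMult ends (f i) w : ℤ) =
      ∑ w ∈ Out f, if w ≠ f i then β w * (edgeMult ends (f i) w : ℤ) else 0 :=
    sum_congr rfl fun w hw => by rw [if_pos (fun h => out_iff.1 hw i h.symm)]
  rw [e1, e2]
  linarith

/-- Coefficient of adjacency inside the chain. -/
theorem Cfg.mult_chain (H : Cfg ends β m f e) {i j : Fin (m + 1)} (h : i ≠ j) :
    edgeMult ends (f i) (f j) = if i.val + 1 = j.val ∨ j.val + 1 = i.val then 1 else 0 := by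
  have h' : i.val ≠ j.val := fun e => h (Fin.ext e)
  split_ifs with hadj
  · rcases hadj with he | he
    · have := mult_succ H.hC H.hconn ⟨i.val, by omega⟩
      convert this using 3
      all_goals refine Fin.ext ?_
      · rfl
      · show _ = _ + 1
        omega
    · have := mult_succ H.hC H.hconn ⟨j.val, by omega⟩
      rw [edgeMult_comm]
      convert this using 3
      all_goals refine Fin.ext ?_
      · rfl
      · show _ = _ + 1
        omega
  · rcases lt_or_gt_of_ne h' with hlt | hlt
    · exact mult_far H.hC H.hconn i j (by omega)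
    · rw [edgeMult_comm]; exact mult_far H.hC H.hconn j i (by omega)

/-- Weighted sums over the other chain vertices. -/
theorem Cfg.chain_sum (H : Cfg ends β m f e) (i : Fin (m + 1)) (z : Fin (m + 1) → ℤ) :
    ∑ j ∈ univ.filter (fun j => j ≠ i), z j * (edgeMult ends (f i) (f j) : ℤ) =
      (if h : 0 < i.val then z ⟨i.val - 1, by omega⟩ else 0) +
        (if h : i.val < m then z ⟨i.val + 1, by omega⟩ else 0) := by
  classical
  have e1 : ∀ j ∈ univ.filter (fun j => j ≠ i), z j * (edgeMult ends (f i) (f j) : ℤ) =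
      (if j.val + 1 = i.val then z j else 0) + (if i.val + 1 = j.val then z j else 0) := by
    intro j hj
    have hne : j ≠ i := (mem_filter.1 hj).2
    rw [H.mult_chain hne.symm]
    split_ifs <;> simp <;> omega
  rw [sum_congr rfl e1, sum_add_distrib, Finset.sum_filter, Finset.sum_filter]
  congr 1
  · split_ifs with h
    · rw [Finset.sum_eq_single ⟨i.val - 1, by omega⟩]
      · rw [if_pos (by intro h'; have := congrArg Fin.val h'; simp at this; omega),
          if_pos (by simp; omega)]
      · intro j _ hj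
        have : j.val ≠ i.val - 1 := fun h' => hj (Fin.ext h')
        split_ifs <;> first | rfl | omega
      · simp
    · refine Finset.sum_eq_zero fun j _ => ?_
      split_ifs <;> first | rfl | omega
  · split_ifs with h
    · rw [Finset.sum_eq_single ⟨i.val + 1, by omega⟩]
      · rw [if_pos (by intro h'; have := congrArg Fin.val h'; simp at this), if_pos rfl]
      · intro j _ hj
        have : j.val ≠ i.val + 1 := fun h' => hj (Fin.ext h')
        split_ifs <;> first | rfl | omega
      · simp
    · refine Finset.sum_eq_zero fun j _ => ?_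
      split_ifs <;> first | rfl | omega

theorem Cfg.out_sum (H : Cfg ends β m f e) (i : Fin (m + 1)) :
    ∑ w ∈ Out f, β w * (edgeMult ends (f i) w : ℤ) =
      if i.val = 0 ∨ i.val = m then (m : ℤ) else 0 := by
  have h := H.total i
  have h2 := H.chain_sum i (fun _ => (m : ℤ))
  rw [h2] at h
  have hm := H.m_pos
  split_ifs at h ⊢ <;> omega

theorem Cfg.interior (H : Cfg ends β m f e) {i : Fin (m + 1)} (h0 : i.val ≠ 0) (hm : i.val ≠ m)
    {w : V} (hw : w ∈ Out f) : edgeMult ends (f i) w = 0 := by
  have h := H.out_sum i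
  rw [if_neg (by omega)] at h
  have := (sum_eq_zero_iff_of_nonneg (fun w _ => mul_nonneg (H.hβ w).1.le (by positivity))).1 h w hw
  rcases mul_eq_zero.1 this with h | h
  · exact absurd h (H.hβ w).1.ne'
  · exact_mod_cast h

/-- The contracted matrix and multiplicity function. -/
noncomputable abbrev mat' (ends : E → V × V) (β : V → ℤ) (e : Fin m → E) :=
  mfMatrix (DualGr.ctrEnds ends (univ.image e)) (ctrFn ends (univ.image e) β)

theorem Cfg.const (H : Cfg ends β m f e) (i : Fin (m + 1)) : β (f i) = β (f 0) := by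
  rw [H.hβm, H.hβm]

theorem Cfg.out_mult (H : Cfg ends β m f e) {v : V} (hv : v ∈ Out f) :
    ∑ i, (edgeMult ends v (f i) : ℤ) =
      edgeMult ends v (f 0) + edgeMult ends v (f (Fin.last m)) := by
  have hne : (0 : Fin (m + 1)) ≠ Fin.last m := by
    intro h; have := congrArg Fin.val h; simp at this; have := H.m_pos; omega
  rw [← Finset.sum_pair (f := fun i => (edgeMult ends v (f i) : ℤ)) hne]
  refine (Finset.sum_subset (subset_univ _) fun i _ hi => ?_).symm
  simp only [mem_insert, mem_singleton, not_or, Fin.ext_iff, Fin.val_zero, Fin.val_last] at hi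
  rw [edgeMult_comm, H.interior hi.1 hi.2 hv]; rfl

theorem Cfg.mulVec_out (H : Cfg ends β m f e) (y : DualGr.CtrVert ends (univ.image e) → ℤ) {v : V}
    (hv : v ∈ Out f) :
    (mat' ends β e).mulVec y (LabChain.mk ends e v) =
      ((edgeMult ends v (f 0) : ℤ) + edgeMult ends v (f (Fin.last m))) * y (LabChain.mk ends e (f 0)) +
        ∑ w ∈ Out f, mfMatrix ends β v w * y (LabChain.mk ends e w) := by
  classical
  have hv' := out_iff.1 hv
  show ∑ c, mat' ends β e (LabChain.mk ends e v) c * y c = _
  rw [sum_ctr ends H.hC]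
  congr 1
  · rw [mat', mfMatrix, if_neg (mk_ne_chain ends H.hC hv'), ctr_mult_chain ends H.hC hv']
    push_cast
    rw [H.out_mult hv]
  · refine sum_congr rfl fun w hw => ?_
    have hw' := out_iff.1 hw
    congr 1
    by_cases hvw : v = w
    · subst hvw
      simp only [mfMatrix, if_pos]
      rw [offsum_out ends H.hC β H.const hv', ctrFn_out ends H.hC β hv']
    · simp only [mfMatrix]
      rw [if_neg (fun h => hvw (mk_inj_out ends H.hC hv' h)), if_neg hvw,
        ctr_mult_out ends H.hC hv' hw' hvw]

theorem Cfg.mulVec_chain (H : Cfg ends β m f e) (y : DualGr.CtrVert ends (univ.image e) → ℤ) :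
    (mat' ends β e).mulVec y (LabChain.mk ends e (f 0)) =
      -2 * y (LabChain.mk ends e (f 0)) + ∑ w ∈ Out f,
        ((edgeMult ends (f 0) w : ℤ) + edgeMult ends (f (Fin.last m)) w) * y (LabChain.mk ends e w) := by
  classical
  show ∑ c, mat' ends β e (LabChain.mk ends e (f 0)) c * y c = _
  rw [sum_ctr ends H.hC]
  congr 1
  · congr 1
    simp only [mfMatrix, if_pos]
    rw [offsum_chain ends H.hC β, ctrFn_chain ends H.hC β H.const, H.hβm]
    have : ∑ i, ∑ w ∈ Out f, β w * (edgeMult ends (f i) w : ℤ) = 2 * m := by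
      simp only [H.out_sum]
      have hm := H.m_pos
      have hne : (0 : Fin (m + 1)) ≠ Fin.last m := by
        intro h; have := congrArg Fin.val h; simp at this; omega
      rw [← Finset.sum_filter]
      have : univ.filter (fun i : Fin (m + 1) => i.val = 0 ∨ i.val = m) = {0, Fin.last m} := by
        ext i; simp only [mem_filter, mem_univ, true_and, mem_insert, mem_singleton, Fin.ext_iff, Fin.val_zero, Fin.val_last]
      rw [this, Finset.sum_pair hne]; ring
    rw [this]
    exact Int.ediv_eq_of_eq_mul_left (by have := H.m_pos; omega) (by ring)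
  · refine sum_congr rfl fun w hw => ?_
    have hw' := out_iff.1 hw
    rw [mat', mfMatrix, if_neg (mk_ne_chain ends H.hC hw').symm, edgeMult_comm,
      ctr_mult_chain ends H.hC hw']
    push_cast
    rw [H.out_mult hw, edgeMult_comm, edgeMult_comm ends w]

theorem Cfg.mulVec_f (H : Cfg ends β m f e) (z : V → ℤ) (i : Fin (m + 1)) :
    (mfMatrix ends β).mulVec z (f i) =
      -2 * z (f i) + ((if h : 0 < i.val then z (f ⟨i.val - 1, by omega⟩) else 0) +
        (if h : i.val < m then z (f ⟨i.val + 1, by omega⟩) else 0)) +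
      ∑ w ∈ Out f, (edgeMult ends (f i) w : ℤ) * z w := by
  classical
  show ∑ w, mfMatrix ends β (f i) w * z w = _
  rw [sum_split ends H.hC, ← H.chain_sum i (fun j => z (f j)),
    ← Finset.add_sum_erase _ _ (mem_univ i), H.hα, Finset.filter_ne' univ i]
  congr 1
  · congr 1
    refine sum_congr rfl fun j hj => ?_
    rw [mfMatrix, if_neg (H.hC.1.ne (Finset.ne_of_mem_erase hj).symm), mul_comm]
  · refine sum_congr rfl fun w hw => ?_
    rw [mfMatrix, if_neg (out_iff.1 hw i)]

theorem Cfg.mulVec_v (H : Cfg ends β m f e) (z : V → ℤ) {v : V} (hv : v ∈ Out f) :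
    (mfMatrix ends β).mulVec z v =
      (edgeMult ends v (f 0) : ℤ) * z (f 0) + edgeMult ends v (f (Fin.last m)) * z (f (Fin.last m)) +
      ∑ w ∈ Out f, mfMatrix ends β v w * z w := by
  classical
  show ∑ w, mfMatrix ends β v w * z w = _
  rw [sum_split ends H.hC]
  congr 1
  have hne : (0 : Fin (m + 1)) ≠ Fin.last m := by
    intro h; have := congrArg Fin.val h; simp at this; have := H.m_pos; omega
  rw [← Finset.sum_pair
    (f := fun i => (edgeMult ends v (f i) : ℤ) * z (f i)) hne]
  have e1 : ∀ i, mfMatrix ends β v (f i) * z (f i) = (edgeMult ends v (f i) : ℤ) * z (f i) := fun i => by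
    rw [mfMatrix, if_neg (Ne.symm (out_iff.1 hv i))]
  rw [sum_congr rfl fun i _ => e1 i]
  refine (Finset.sum_subset (subset_univ _) fun i _ hi => ?_).symm
  simp only [mem_insert, mem_singleton, not_or, Fin.ext_iff, Fin.val_zero, Fin.val_last] at hi
  rw [edgeMult_comm, H.interior hi.1 hi.2 hv]; simp

theorem Cfg.liftAt_f0 (H : Cfg ends β m f e) (x : DualGr.CtrVert ends (univ.image e) → ℤ) :
    liftAt ends (univ.image e) (f 0) x (f 0) = x (LabChain.mk ends e (f 0)) := by
  simp [liftAt]

theorem Cfg.liftAt_f (H : Cfg ends β m f e) (x : DualGr.CtrVert ends (univ.image e) → ℤ)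
    {i : Fin (m + 1)} (hi : i ≠ 0) : liftAt ends (univ.image e) (f 0) x (f i) = 0 := by
  unfold liftAt
  rw [if_pos ⟨mk_f ends H.hC i, H.hC.1.ne hi⟩]

theorem Cfg.liftAt_out (H : Cfg ends β m f e) (x : DualGr.CtrVert ends (univ.image e) → ℤ)
    {v : V} (hv : v ∈ Out f) : liftAt ends (univ.image e) (f 0) x v = x (LabChain.mk ends e v) := by
  unfold liftAt
  rw [if_neg (fun h => mk_ne_chain ends H.hC (out_iff.1 hv) h.1)]

theorem Cfg.liftAt_injective (H : Cfg ends β m f e) :
    Function.Injective (liftAt ends (univ.image e) (f 0)) := by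
  intro x x' h
  funext c
  rcases cases_vert ends H.hC c with rfl | ⟨v, hv, rfl⟩
  · rw [← H.liftAt_f0 x, ← H.liftAt_f0 x', h]
  · rw [← H.liftAt_out x (out_iff.2 hv), ← H.liftAt_out x' (out_iff.2 hv), h]

theorem Cfg.betaHom_liftAt (H : Cfg ends β m f e) (x : DualGr.CtrVert ends (univ.image e) → ℤ) :
    betaHom β (liftAt ends (univ.image e) (f 0) x) = betaHom (ctrFn ends (univ.image e) β) x := by
  classical
  simp only [betaHom, Fintype.linearCombination_apply, smul_eq_mul]
  rw [sum_ctr ends H.hC, sum_split ends H.hC, ctrFn_chain ends H.hC β H.const]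
  congr 1
  · rw [Finset.sum_eq_single 0]
    · rw [H.liftAt_f0]
    · intro i _ hi; rw [H.liftAt_f x hi, zero_mul]
    · simp
  · exact sum_congr rfl fun v hv => by rw [H.liftAt_out x hv, ctrFn_out ends H.hC β (out_iff.1 hv)]

/-- The tail side of the first edge of the chain. -/
theorem Cfg.exists_side (H : Cfg ends β m f e) :
    ∃ B : Set V, (∀ v w : V, v ∈ Out f → w ∈ Out f → edgeMult ends v w ≠ 0 → (v ∈ B ↔ w ∈ B)) ∧
      (∀ w ∈ Out f, edgeMult ends (f 0) w ≠ 0 → w ∉ B) ∧
      (∀ w ∈ Out f, edgeMult ends (f (Fin.last m)) w ≠ 0 → w ∈ B) := by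
  have hm := H.m_pos
  obtain ⟨B, hB, hBf⟩ := exists_cut H.hC H.hconn ⟨0, hm⟩
  have key : ∀ v w, edgeMult ends v w ≠ 0 → (v ∈ Out f ∨ w ∈ Out f) → (v ∈ B ↔ w ∈ B) := by
    intro v w h hout
    obtain ⟨d, hd⟩ := Finset.card_pos.1 (Nat.pos_of_ne_zero h)
    simp only [mem_filter, mem_univ, true_and] at hd
    have hne : d ≠ e ⟨0, hm⟩ := by
      intro he; subst he
      rcases H.hC.2.2 ⟨0, hm⟩ with h' | h' <;> rcases hd with hd | hd <;>
        rw [h', Prod.mk.injEq] at hd <;> rcases hout with ho | ho <;>
        first | exact out_iff.1 ho _ hd.1 | exact out_iff.1 ho _ hd.2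
    have := hB d hne
    rcases hd with hd | hd <;> rw [hd] at this
    · exact this
    · exact this.symm
  refine ⟨B, fun v w hv _ h => key v w h (Or.inl hv), fun w hw h => ?_, fun w hw h => ?_⟩
  · rw [← key _ _ h (Or.inr hw), hBf]; simp
  · rw [← key _ _ h (Or.inr hw), hBf]; simpa using hm

/-- The key construction: `h(y)` with `α (h y) = lift (α' y)`. -/
theorem Cfg.lift_mulVec (H : Cfg ends β m f e) (B : Set V) [DecidablePred (· ∈ B)]
    (hBvw : ∀ v w : V, v ∈ Out f → w ∈ Out f → edgeMult ends v w ≠ 0 → (v ∈ B ↔ w ∈ B))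
    (hB0 : ∀ w ∈ Out f, edgeMult ends (f 0) w ≠ 0 → w ∉ B)
    (hBm : ∀ w ∈ Out f, edgeMult ends (f (Fin.last m)) w ≠ 0 → w ∈ B)
    (y : DualGr.CtrVert ends (univ.image e) → ℤ) (z : V → ℤ) (d : ℤ)
    (hd : d = (∑ w ∈ Out f, (edgeMult ends (f (Fin.last m)) w : ℤ) * y (LabChain.mk ends e w)) - y (LabChain.mk ends e (f 0)))
    (hzf : ∀ i, z (f i) = y (LabChain.mk ends e (f 0)) + i.val * d)
    (hzo : ∀ v ∈ Out f, z v = y (LabChain.mk ends e v) + if v ∈ B then d * β v else 0) :
    (mfMatrix ends β).mulVec z = liftAt ends (univ.image e) (f 0) ((mat' ends β e).mulVec y) := by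
  classical
  have hm := H.m_pos
  funext v
  by_cases hv : v ∈ Out f
  · rw [H.liftAt_out _ hv, H.mulVec_out y hv, H.mulVec_v z hv, hzf, hzf]
    have hsum : ∀ w ∈ Out f, mfMatrix ends β v w * z w =
        mfMatrix ends β v w * y (LabChain.mk ends e w) + (if v ∈ B then d * (mfMatrix ends β v w * β w) else 0) := by
      intro w hw
      rw [hzo w hw, mul_add]
      congr 1
      by_cases h : mfMatrix ends β v w = 0
      · rw [h]; simp
      · have hiff : v ∈ B ↔ w ∈ B := by
          by_cases hvw : v = w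
          · rw [hvw]
          · refine hBvw v w hv hw fun h' => h ?_
            simp [mfMatrix, hvw, h']
        by_cases hb : v ∈ B
        · rw [if_pos hb, if_pos (hiff.1 hb)]; ring
        · rw [if_neg hb, if_neg (fun h => hb (hiff.2 h)), mul_zero]
    rw [sum_congr rfl hsum, sum_add_distrib]
    have hrow : ∑ w ∈ Out f, mfMatrix ends β v w * β w =
        -((edgeMult ends v (f 0) : ℤ) + edgeMult ends v (f (Fin.last m))) * m := by
      have h := H.mulVec_v β hv
      have h0 : (mfMatrix ends β).mulVec β v = 0 := by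
        show ∑ w, mfMatrix ends β v w * β w = 0
        rw [← Finset.add_sum_erase _ _ (mem_univ v)]
        have e1 : ∀ w ∈ univ.erase v, mfMatrix ends β v w * β w = β w * (edgeMult ends v w : ℤ) := by
          intro w hw; rw [mfMatrix, if_neg (Finset.ne_of_mem_erase hw).symm, mul_comm]
        rw [sum_congr rfl e1, H.offsum v]; ring
      rw [h0, H.hβm, H.hβm] at h
      linarith
    simp only [Fin.val_zero, Fin.val_last, Nat.cast_zero]
    by_cases hb : v ∈ B
    · have : edgeMult ends v (f 0) = 0 := by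
        by_contra h
        exact hB0 v hv (by rwa [edgeMult_comm]) hb
      simp only [if_pos hb, ← Finset.mul_sum, hrow, this]
      push_cast
      ring
    · have : edgeMult ends v (f (Fin.last m)) = 0 := by
        by_contra h
        exact hb (hBm v hv (by rwa [edgeMult_comm]))
      simp only [if_neg hb, Finset.sum_const_zero, this]
      push_cast
      ring
  · obtain ⟨i, rfl⟩ : ∃ i, f i = v := by
      rw [out_iff] at hv; push Not at hv; exact hv
    rw [H.mulVec_f]
    have hsum : ∑ w ∈ Out f, (edgeMult ends (f i) w : ℤ) * z w =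
        ∑ w ∈ Out f, (edgeMult ends (f i) w : ℤ) * y (LabChain.mk ends e w) + if i.val = m then d * m else 0 := by
      by_cases him : i.val = m
      · obtain rfl : i = Fin.last m := Fin.ext him
        have ho := H.out_sum (Fin.last m)
        rw [if_pos (Or.inr him)] at ho
        rw [if_pos him, ← ho, Finset.mul_sum, ← sum_add_distrib]
        refine sum_congr rfl fun w hw => ?_
        rw [hzo w hw]
        by_cases h : edgeMult ends (f (Fin.last m)) w = 0
        · simp [h]
        · rw [if_pos (hBm w hw h)]; ring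
      · rw [if_neg him, add_zero]
        refine sum_congr rfl fun w hw => ?_
        rw [hzo w hw]
        by_cases h : edgeMult ends (f i) w = 0
        · simp [h]
        · have hi0 : i.val = 0 := by
            by_contra h0
            exact h (H.interior h0 him hw)
          obtain rfl : i = 0 := Fin.ext hi0
          rw [if_neg (hB0 w hw h)]; ring
    rw [hsum, hzf]
    by_cases hi0 : i = 0
    · subst hi0
      rw [H.liftAt_f0, H.mulVec_chain]
      rw [dif_neg (show ¬ (0 < ((0 : Fin (m + 1)) : ℕ)) by simp),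
        dif_pos (show ((0 : Fin (m + 1)) : ℕ) < m by simpa), if_neg (by simp; omega), hzf]
      simp only [Fin.val_zero, Nat.cast_zero, zero_add, Nat.cast_one]
      have : ∑ w ∈ Out f, ((edgeMult ends (f 0) w : ℤ) + edgeMult ends (f (Fin.last m)) w) * y (LabChain.mk ends e w) =
          ∑ w ∈ Out f, (edgeMult ends (f 0) w : ℤ) * y (LabChain.mk ends e w) + (d + y (LabChain.mk ends e (f 0))) := by
        rw [hd, sub_add_cancel, ← sum_add_distrib]
        exact sum_congr rfl fun w _ => by ring
      rw [this]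
      ring
    · rw [H.liftAt_f _ hi0]
      have h0 : 0 < i.val := Nat.pos_of_ne_zero fun h => hi0 (Fin.ext h)
      rw [dif_pos h0]
      have e0 : ((i.val - 1 : ℕ) : ℤ) = (i.val : ℤ) - 1 := by omega
      by_cases him : i.val = m
      · obtain rfl : i = Fin.last m := Fin.ext him
        rw [dif_neg (by simp), if_pos him, hzf]
        simp only [e0, Fin.val_last] at *
        linarith
      · have : ∑ w ∈ Out f, (edgeMult ends (f i) w : ℤ) * y (LabChain.mk ends e w) = 0 :=
          sum_eq_zero fun w hw => by rw [H.interior (by omega) him hw]; simp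
        rw [dif_pos (by omega), if_neg him, this, hzf, hzf]
        simp only [e0]
        push_cast
        ring

theorem Cfg.exists_preimage (H : Cfg ends β m f e) (y : DualGr.CtrVert ends (univ.image e) → ℤ) :
    ∃ z : V → ℤ, (mfMatrix ends β).mulVec z = liftAt ends (univ.image e) (f 0) ((mat' ends β e).mulVec y) := by
  classical
  obtain ⟨B, h1, h2, h3⟩ := H.exists_side
  set d := (∑ w ∈ Out f, (edgeMult ends (f (Fin.last m)) w : ℤ) * y (LabChain.mk ends e w)) - y (LabChain.mk ends e (f 0))
  refine ⟨fun v => if h : ∃ i, f i = v then y (LabChain.mk ends e (f 0)) + (h.choose.val : ℤ) * d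
    else y (LabChain.mk ends e v) + if v ∈ B then d * β v else 0, H.lift_mulVec B h1 h2 h3 y _ d rfl ?_ ?_⟩
  · intro i
    have hex : ∃ j, f j = f i := ⟨i, rfl⟩
    simp only [dif_pos hex]
    rw [show hex.choose = i from H.hC.1 hex.choose_spec]
  · intro v hv
    simp only [dif_neg (show ¬∃ i, f i = v from fun ⟨i, hi⟩ => out_iff.1 hv i hi)]

theorem Cfg.descend (H : Cfg ends β m f e) (z : V → ℤ)
    (hz : ∀ i : Fin (m + 1), i ≠ 0 → (mfMatrix ends β).mulVec z (f i) = 0) :
    ∃ y, (mfMatrix ends β).mulVec z = liftAt ends (univ.image e) (f 0) ((mat' ends β e).mulVec y) := by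
  classical
  have hm := H.m_pos
  obtain ⟨B, h1, h2, h3⟩ := H.exists_side
  set d := z (f ⟨1, by omega⟩) - z (f 0) with hd
  have hlin : ∀ j : ℕ, ∀ hj : j ≤ m, z (f ⟨j, by omega⟩) = z (f 0) + (j : ℤ) * d ∧
      ∀ hj1 : j + 1 ≤ m, z (f ⟨j + 1, by omega⟩) = z (f 0) + ((j : ℤ) + 1) * d := by
    intro j
    induction j with
    | zero => intro _; exact ⟨by simp, fun _ => by simp [hd]⟩
    | succ j ih =>
      intro hj
      obtain ⟨i1, i2⟩ := ih (by omega)
      refine ⟨by rw [i2 hj]; push_cast; ring, fun hj1 => ?_⟩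
      have h := hz ⟨j + 1, by omega⟩ (by simp [Fin.ext_iff])
      rw [H.mulVec_f, dif_pos (by simp), dif_pos (by simp; omega),
        sum_eq_zero (fun w hw => by rw [H.interior (i := ⟨j + 1, by omega⟩) (by simp) (by simp; omega) hw]; simp)]
        at h
      simp only [Nat.add_sub_cancel] at h
      rw [i1, i2 hj] at h
      push_cast
      linarith
  let rep : DualGr.CtrVert ends (univ.image e) → V :=
    fun c => Quotient.out (s := DualGr.ctrSetoid ends (univ.image e)) c
  let y : DualGr.CtrVert ends (univ.image e) → ℤ := fun c =>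
    if c = LabChain.mk ends e (f 0) then z (f 0) else z (rep c) - if rep c ∈ B then d * β (rep c) else 0
  have hyo : ∀ v ∈ Out f, y (LabChain.mk ends e v) = z v - if v ∈ B then d * β v else 0 := by
    intro v hv
    have hr : rep (LabChain.mk ends e v) = v :=
      (mk_inj_out ends H.hC (out_iff.1 hv) (Quotient.out_eq (LabChain.mk ends e v)).symm).symm
    simp only [y, if_neg (mk_ne_chain ends H.hC (out_iff.1 hv)), hr]
  have hyc : y (LabChain.mk ends e (f 0)) = z (f 0) := if_pos rfl
  refine ⟨y, H.lift_mulVec B h1 h2 h3 y z d ?_ ?_ ?_⟩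
  · have h := hz (Fin.last m) (by simp [Fin.ext_iff]; omega)
    rw [H.mulVec_f, dif_pos (by simpa using hm), dif_neg (by simp)] at h
    simp only [Fin.val_last] at h
    rw [(hlin (m - 1) (by omega)).1, show (Fin.last m : Fin (m+1)) = ⟨m, by omega⟩ from rfl,
      (hlin m le_rfl).1] at h
    have hs : ∑ w ∈ Out f, (edgeMult ends (f (Fin.last m)) w : ℤ) * y (LabChain.mk ends e w) =
        ∑ w ∈ Out f, (edgeMult ends (f (Fin.last m)) w : ℤ) * z w - d * m := by
      have ho := H.out_sum (Fin.last m)
      rw [if_pos (Or.inr (Fin.val_last m))] at ho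
      conv_rhs => rw [← ho, Finset.mul_sum, ← sum_sub_distrib]
      refine sum_congr rfl fun w hw => ?_
      rw [hyo w hw]
      by_cases h : edgeMult ends (f (Fin.last m)) w = 0
      · simp [h]
      · rw [if_pos (h3 w hw h)]; ring
    rw [hs, hyc, show (Fin.last m : Fin (m+1)) = ⟨m, by omega⟩ from rfl]
    have e0 : ((m - 1 : ℕ) : ℤ) = (m : ℤ) - 1 := by omega
    rw [e0] at h
    linarith
  · intro i
    rw [hyc]
    exact (hlin i.val (by omega)).1
  · intro v hv
    rw [hyo v hv]; ring

end Groth.Agent.LabChain
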